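import Groth.Agent.RelVALib.UPFunctor
import Groth.Agent.OmegaLib.StalkLocal
import Groth.Agent.AmpleLib.Ample

/-!
# Sections along isomorphisms of composed pullbacks
-/

set_option autoImplicit false
set_option backward.isDefEq.respectTransparency.types false

universe u

open AlgebraicGeometry CategoryTheory TopologicalSpace
open Groth.Agent.Coherent Groth.Agent.PicLib Groth.Agent.AmpleLib

namespace Groth.Agent.HypLib

variable {X Z W : Scheme.{u}}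

theorem exists_iso_of_fac (φ : X ⟶ Z) (ι : Z ⟶ W) (r : X ⟶ W) (e : φ ≫ ι = r) (M : W.Modules) {N : X.Modules}
    (τ : (Scheme.Modules.pullback r).obj M ≅ N) :
    ∃ θ : (Scheme.Modules.pullback φ).obj ((Scheme.Modules.pullback ι).obj M) ≅ N,
      ∀ m : Γ(M, ⊤), θ.hom.app ⊤ (PicLib.pullSec φ (U := ⊤) (PicLib.pullSec ι (U := ⊤) m)) =
        τ.hom.app ⊤ (PicLib.pullSec r (U := ⊤) m) := by
  obtain ⟨c, hc⟩ := RelVALib.exists_compIso φ ι r e M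
  refine ⟨c.symm ≪≫ τ, fun m => ?_⟩
  have h : c.hom.app ⊤ (PicLib.pullSec r (U := ⊤) m) = PicLib.pullSec φ (U := ⊤) (PicLib.pullSec ι (U := ⊤) m) :=
    (hc ⊤ m le_rfl).trans (resM_self _ _ _)
  rw [← h]
  show (c.hom ≫ c.inv ≫ τ.hom).app ⊤ _ = _
  rw [c.hom_inv_id_assoc]

theorem exists_iso_comp (φ : X ⟶ Z) (ψ : Z ⟶ W) (M : W.Modules) {N : Z.Modules}
    (σ : (Scheme.Modules.pullback ψ).obj M ≅ N) {N' : X.Modules}
    (θ : (Scheme.Modules.pullback φ).obj N ≅ N') :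
    ∃ Θ : (Scheme.Modules.pullback (φ ≫ ψ)).obj M ≅ N',
      ∀ m : Γ(M, ⊤), Θ.hom.app ⊤ (PicLib.pullSec (φ ≫ ψ) (U := ⊤) m) =
        θ.hom.app ⊤ (PicLib.pullSec φ (U := ⊤) (σ.hom.app ⊤ (PicLib.pullSec ψ (U := ⊤) m))) := by
  obtain ⟨c, hc⟩ := RelVALib.exists_compIso φ ψ (φ ≫ ψ) rfl M
  refine ⟨c ≪≫ (Scheme.Modules.pullback φ).mapIso σ ≪≫ θ, fun m => ?_⟩
  have h : c.hom.app ⊤ (PicLib.pullSec (φ ≫ ψ) (U := ⊤) m) = PicLib.pullSec φ (U := ⊤) (PicLib.pullSec ψ (U := ⊤) m) :=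
    (hc ⊤ m le_rfl).trans (resM_self _ _ _)
  show θ.hom.app ⊤ (((Scheme.Modules.pullback φ).map σ.hom).app ⊤ (c.hom.app ⊤ _)) = _
  rw [h]
  exact congrArg _ (AmpleLib.pullback_map_app_pullSec φ σ.hom (PicLib.pullSec ψ (U := ⊤) m))

theorem exists_iso_id (M : X.Modules) :
    ∃ j : M ≅ (Scheme.Modules.pullback (𝟙 X)).obj M, ∀ m : Γ(M, ⊤), j.hom.app ⊤ m = PicLib.pullSec (𝟙 X) (U := ⊤) m :=
  ⟨((Scheme.Modules.pullbackId X).app M).symm, fun m => OmegaLib.pullbackId_inv_app M ⊤ m⟩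

end Groth.Agent.HypLib
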