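import Groth.Agent.UPLib.ProjSpace
import Groth.Agent.ZeroSchLib.Basic
import Groth.Agent.RelVALib.UPFunctor
import Groth.Agent.OmegaLib.StalkLocal
import Groth.Agent.TwistDom24.Sections

/-!
# Linear forms as sections of `O(1)` on projective space, and their zero schemes

`pullSec_lsec`: the pullback of a linear form is the combination of the pulled back coordinates.
`exists_lsec`: over a field every section of `O(1)` is a linear form.
`zeroScheme_le_ker`, `pullSec_subschemeι`: the zero scheme is the largest closed subscheme killing the section.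
-/

set_option autoImplicit false
set_option linter.unusedSectionVars false
set_option backward.isDefEq.respectTransparency.types false
set_option maxHeartbeats 1000000

universe u

open AlgebraicGeometry CategoryTheory TopologicalSpace Opposite HomogeneousLocalization
open Groth.Agent.Coherent Groth.Agent.PicLib Groth.Agent.AmpleLib

namespace Groth.Agent.HypLib

section zero

variable {X Y : Scheme.{u}} {L : Y.Modules}

theorem pullSec_subschemeι (hL : PicF.IsInvertible L) (s : Coh.structureModule Y ⟶ L) :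
    PicLib.pullSec (PicF2.zeroScheme L s).subschemeι (unitVal s ⊤) = 0 := by
  refine AmpleLib.sec_ext _ _ _ fun x _ => ?_
  obtain ⟨W, hxW, g, hg⟩ := exists_isGen hL ((PicF2.zeroScheme L s).subschemeι x)
  obtain ⟨V, hV, hxV, hVW⟩ := Opens.isBasis_iff_nbhd.1 Y.isBasis_affineOpens hxW
  refine ⟨(PicF2.zeroScheme L s).subschemeι ⁻¹ᵁ V, le_top, hxV, ?_⟩
  have he := hg.restrict hVW
  have h0 : (PicF2.zeroScheme L s).subschemeι.app V (he.coef le_rfl (unitVal s V)) = 0 := by
    refine RingHom.mem_ker.1 ((Scheme.IdealSheafData.ker_subschemeι_app _ ⟨V, hV⟩).ge ?_)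
    rw [ZeroSchLib.zeroScheme_ideal_eq_span s hL ⟨V, hV⟩ he]
    exact Ideal.subset_span rfl
  refine ((resM_pullSec _ le_top (unitVal s ⊤)).trans ?_).trans (map_zero _).symm
  rw [resM_unitVal, ← he.coef_spec le_rfl (unitVal s V), PicLib.pullSec_smul, h0, zero_smul]

theorem zeroScheme_le_ker (f : X ⟶ Y) [QuasiCompact f] (hL : PicF.IsInvertible L)
    (s : Coh.structureModule Y ⟶ L) (h : PicLib.pullSec f (unitVal s ⊤) = 0) :
    PicF2.zeroScheme L s ≤ f.ker := by
  choose W hW g hg using fun y : Y => exists_isGen hL y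
  choose V hV hyV hVW using fun y : Y => Opens.isBasis_iff_nbhd.1 Y.isBasis_affineOpens (hW y)
  refine Scheme.IdealSheafData.le_of_iSup_eq_top (fun y => ⟨V y, hV y⟩)
    (eq_top_iff.2 fun y _ => Opens.mem_iSup.2 ⟨y, hyV y⟩) fun y => ?_
  have he := (hg y).restrict (hVW y)
  rw [ZeroSchLib.zeroScheme_ideal_eq_span s hL ⟨V y, hV y⟩ he, Scheme.Hom.ker_apply, Ideal.span_le,
    Set.singleton_subset_iff]
  refine RingHom.mem_ker.2 ((isGen_pullSec f he hL _ le_rfl).1 ?_)
  show f.app (V y) _ • resM _ _ _ = (0 : Γ(X, f ⁻¹ᵁ V y)) • resM _ _ _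
  rw [resM_self, zero_smul, ← PicLib.pullSec_smul]
  have := he.coef_spec le_rfl (unitVal s (V y))
  rw [resM_self] at this
  rw [this, ← resM_unitVal s (le_top : V y ≤ ⊤), ← resM_pullSec, h, map_zero]

theorem glocus_zero (hL : PicF.IsInvertible L) : glocus L (0 : Γ(L, ⊤)) = ⊥ := by
  refine eq_bot_iff.2 fun y hy => ?_
  obtain ⟨W, hyW, g, hg⟩ := exists_isGen hL y
  have hc : hg.coef le_rfl (resM L (le_top : W ≤ ⊤) (0 : Γ(L, ⊤))) = 0 :=
    hg.coef_eq le_rfl (by rw [zero_smul, map_zero])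
  have := (glocus_inf (0 : Γ(L, ⊤)) hg).le ⟨hy, hyW⟩
  rwa [hc, Scheme.basicOpen_zero] at this

end zero

section gen

variable {A σ₀ : Type u} [CommRing A] [SetLike σ₀ A] [AddSubgroupClass σ₀ A] {𝒜 : ℕ → σ₀} [GradedRing 𝒜]
  {X : Scheme.{u}}

theorem pullSec_sec_mul (hgen : Algebra.adjoin (𝒜 0) (𝒜 1 : Set A) = ⊤) (r : X ⟶ Proj 𝒜) (a : 𝒜 0) {b : A}
    (hb : b ∈ 𝒜 1) (hab : a.1 * b ∈ 𝒜 1) :
    PicLib.pullSec r (UPLib.sec (a.1 * b) hab) =
      ((show Γ(X, r ⁻¹ᵁ ⊤) from ProjUP.toGlobal (r ≫ Proj.toSpecZero 𝒜) a)) •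
        PicLib.pullSec r (UPLib.sec b hb) := by
  refine AmpleLib.sec_ext _ _ _ fun x _ => ?_
  obtain ⟨f, hf, hx⟩ := UPLib.exists_degOne hgen (r x)
  let W := r ⁻¹ᵁ Proj.basicOpen 𝒜 f
  refine ⟨W, le_top, hx, ?_⟩
  rw [resM_smul]
  refine (UPLib.appLE_smul_sec hf r W le_rfl (a.1 * b) (by simpa using hab)).symm.trans
    (Eq.trans ?_ (congrArg (_ • ·) (UPLib.appLE_smul_sec hf r W le_rfl b (by simpa using hb))))
  rw [smul_smul]
  congr 1
  have hw : W.ι ≫ r ≫ Proj.toSpecZero 𝒜 = W.toSpecΓ ≫ Spec.map (CommRingCat.ofHom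
      ((res (le_top : W ≤ ⊤)).comp (ProjUP.toGlobal (r ≫ Proj.toSpecZero 𝒜)))) := by
    conv_lhs => rw [← UPLib.eq_toSpecΓ_toGlobal (r ≫ Proj.toSpecZero 𝒜)]
    rw [CommRingCat.ofHom_comp, Spec.map_comp, ← Category.assoc, ← Category.assoc]
    congr 1
    exact (Scheme.Opens.toSpecΓ_SpecMap_presheaf_map_top W).symm
  rw [UPLib.appLE_fromZero hf r W le_rfl] at hw
  have h := ConcreteCategory.congr_hom (UPLib.toSpecΓ_map_injective hw) a
  refine Eq.trans ?_ (congrArg (· * _) h)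
  refine Eq.trans (congrArg (Proj.awayToSection 𝒜 f ≫ r.appLE _ W le_rfl).hom ?_)
    (map_mul (Proj.awayToSection 𝒜 f ≫ r.appLE _ W le_rfl).hom _ _)
  refine HomogeneousLocalization.val_injective _ ?_
  rw [HomogeneousLocalization.val_mul, Away.val_mk, Away.val_mk]
  refine Eq.trans ?_ (Localization.mk_mul _ _ _ _).symm
  exact Localization.mk_eq_mk_iff.2 (Localization.r_iff_exists.2 ⟨1, by simp⟩)

end gen

variable {R : Type u} [CommRing R] {X : Scheme.{u}} (n : ℕ)

theorem hgen : Algebra.adjoin (CohB1.polyGrading n R 0)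
    (CohB1.polyGrading n R 1 : Set (MvPolynomial (Fin (n + 1)) R)) = ⊤ :=
  UPLib.adjoin_one_eq_top (UPLib.linForm_mem n) (UPLib.isSymmetricAlgebra_linForm n)

theorem isInvertible_one : PicF.IsInvertible (Twist.twistProjSpace n R 1) :=
  TwistLib.G.isInvertible_twist (UPLib.exists_degOne (hgen n)) ((1 : ℕ) : ℤ)

/-- The linear form with coefficients `c` as a global section of `O(1)`. -/
noncomputable def lsec (c : Fin (n + 1) → R) : ProjUP.Γm (Twist.twistProjSpace n R 1) :=
  Twist.globalOf (CohB1.polyGrading n R) ⟨UPLib.linForm n c, UPLib.linForm_mem n c⟩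

theorem lsec_single (i : Fin (n + 1)) : lsec n (Pi.single i (1 : R)) = ProjUP.coord n R i :=
  congrArg (fun z => Twist.globalOf (CohB1.polyGrading n R) z) (UPLib.linForm_single' n i)

theorem lsec_add (c d : Fin (n + 1) → R) : lsec n (c + d) = lsec n c + lsec n d := by
  refine Subtype.ext (funext fun x => Subtype.ext ?_)
  show Localization.mk (UPLib.linForm n (c + d)) _ =
    Localization.mk (UPLib.linForm n c) _ + Localization.mk (UPLib.linForm n d) _
  rw [map_add, Localization.add_mk_self]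

theorem toGlobal_algebraMap (r : X ⟶ CohB1.ProjSpace n R) (a : R) :
    ProjUP.toGlobal (r ≫ CohB1.ProjSpace.toSpec n R) a =
      ProjUP.toGlobal (r ≫ Proj.toSpecZero (CohB1.polyGrading n R))
        (algebraMap R (CohB1.polyGrading n R 0) a) := by
  show ((Scheme.ΓSpecIso (CommRingCat.of R)).inv ≫ ((r ≫ Proj.toSpecZero (CohB1.polyGrading n R)) ≫
      Spec.map (CommRingCat.ofHom (algebraMap R (CohB1.polyGrading n R 0)))).appTop) a =
    ((CommRingCat.ofHom (algebraMap R (CohB1.polyGrading n R 0))) ≫ (Scheme.ΓSpecIso _).inv ≫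
      (r ≫ Proj.toSpecZero (CohB1.polyGrading n R)).appTop) a
  rw [Scheme.Hom.comp_appTop, Scheme.ΓSpecIso_inv_naturality_assoc]

theorem pullSec_lsec_eq (r : X ⟶ CohB1.ProjSpace n R) (c : Fin (n + 1) → R) :
    ProjUP.pullSec r _ (lsec n c) = PicLib.pullSec r (UPLib.sec (𝒜 := CohB1.polyGrading n R) (UPLib.linForm n c) (UPLib.linForm_mem n c)) := rfl

theorem pullSec_lsec_smul (r : X ⟶ CohB1.ProjSpace n R) (a : R) (c : Fin (n + 1) → R) :
    ProjUP.pullSec r _ (lsec n (a • c)) =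
      ProjUP.toGlobal (r ≫ CohB1.ProjSpace.toSpec n R) a • ProjUP.pullSec r _ (lsec n c) := by
  have e : UPLib.linForm n (a • c) = (algebraMap R (CohB1.polyGrading n R 0) a).1 * UPLib.linForm n c := by
    rw [map_smul, Algebra.smul_def]; rfl
  have hab : (algebraMap R (CohB1.polyGrading n R 0) a).1 * UPLib.linForm n c ∈ CohB1.polyGrading n R 1 :=
    e ▸ UPLib.linForm_mem n (a • c)
  have h := pullSec_sec_mul (𝒜 := CohB1.polyGrading n R) (hgen (R := R) n) r (algebraMap R (CohB1.polyGrading n R 0) a)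
    (UPLib.linForm_mem n c) hab
  rw [toGlobal_algebraMap]
  rw [pullSec_lsec_eq, pullSec_lsec_eq]
  have hsec : ∀ {z w : MvPolynomial (Fin (n + 1)) R} (hz : z ∈ CohB1.polyGrading n R 1)
      (hw : w ∈ CohB1.polyGrading n R 1), z = w →
      PicLib.pullSec r (UPLib.sec (𝒜 := CohB1.polyGrading n R) z hz) = PicLib.pullSec r (UPLib.sec w hw) := by
    intro z w hz hw hzw; subst hzw; rfl
  exact ((hsec (UPLib.linForm_mem n (a • c)) hab e).trans h :)

theorem pullSec_lsec (r : X ⟶ CohB1.ProjSpace n R) (c : Fin (n + 1) → R) :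
    ProjUP.pullSec r _ (lsec n c) =
      ∑ i, ProjUP.toGlobal (r ≫ CohB1.ProjSpace.toSpec n R) (c i) • ProjUP.pullSec r _ (ProjUP.coord n R i) := by
  let Ψ : (Fin (n + 1) → R) →+ ProjUP.Γm ((Scheme.Modules.pullback r).obj (Twist.twistProjSpace n R 1)) :=
    AddMonoidHom.mk' (fun d => ProjUP.pullSec r _ (lsec n d)) fun d e =>
      (congrArg _ (lsec_add n d e)).trans (map_add _ _ _)
  show Ψ c = _
  conv_lhs => rw [pi_eq_sum_univ' c]
  rw [map_sum]
  refine Finset.sum_congr rfl fun i _ => ?_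
  refine (pullSec_lsec_smul n r (c i) _).trans ?_
  rw [lsec_single]

theorem exists_lsec {k : Type u} [Field k] (s : Coh.structureModule (CohB1.ProjSpace n k) ⟶ Twist.twistProjSpace n k 1) :
    ∃ c : Fin (n + 1) → k, unitVal s ⊤ = lsec n c := by
  have hone : CohB1.polyGrading n k 1 ≠ ⊥ := fun h =>
    MvPolynomial.X_ne_zero (R := k) (0 : Fin (n + 1))
      ((Submodule.mem_bot k).1 (h ▸ MvPolynomial.isHomogeneous_X k (0 : Fin (n + 1))))
  have hmul : ∀ i : ℕ, CohB1.polyGrading n k 1 * CohB1.polyGrading n k i = CohB1.polyGrading n k (i + 1) := fun i => by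
    show MvPolynomial.homogeneousSubmodule _ _ 1 * MvPolynomial.homogeneousSubmodule _ _ i = _
    rw [← MvPolynomial.homogeneousSubmodule_one_pow (σ := Fin (n + 1)) (R := k) i, ← pow_succ', MvPolynomial.homogeneousSubmodule_one_pow]
  obtain ⟨a, ha⟩ := (TwistDom24.globalOf_bijective (𝒜 := CohB1.polyGrading n k) hmul hone 1).2 (unitVal s ⊤)
  have hc : ∃ c, UPLib.linForm n c = a.1 :=
    UPLib.exists_eq_ι (𝒮 := CohB1.polyGrading n k) (UPLib.linForm_mem n) (UPLib.isSymmetricAlgebra_linForm n) a.property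
  obtain ⟨c, hc⟩ := hc
  refine ⟨c, ?_⟩
  obtain ⟨a, ha'⟩ := a
  subst hc
  exact ha.symm

end Groth.Agent.HypLib
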